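import Mathlib
import Groth.Prelude.Def_CAlg
import Groth.Agent.GorLib.Artinian
import Groth.Agent.GorLib.TopHull
import Groth.Agent.LiaisonLib.AlmostCI
import Groth.Agent.RegLocal.Serre
import Groth.Agent.InjHullLib.Matlis

/-!
# `length Hom(I, R/J)` for finite colength ideals of a two-dimensional regular local ring
-/

set_option autoImplicit false

universe u

open IsLocalRing

namespace Groth.Agent.RegTwoHomLib

/-- Lengths of annihilators in a self-injective artinian local ring. -/
theorem length_ann {A : Type u} [CommRing A] [IsLocalRing A] [IsArtinianRing A]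
    (hG : LocCoh.IsGorensteinLocalRing A) (K : Ideal A) :
    Module.length A ↥((⊥ : Ideal A).colon (K : Set A)) = Module.length A (A ⧸ K) := by
  obtain ⟨t, ht0, htm, htx⟩ := GorLib.simpleSocle_of_gorenstein hG
  let s : ResidueField A →ₗ[A] A :=
    Submodule.liftQ (maximalIdeal A) (LinearMap.toSpanSingleton A A t) fun r hr => htm r hr
  have hs : Function.Injective s := by
    rw [injective_iff_map_eq_zero]
    intro z hz
    obtain ⟨r, rfl⟩ := residue_surjective z
    by_contra hne
    have hu : IsUnit r := by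
      by_contra hr
      exact hne (Ideal.Quotient.eq_zero_iff_mem.mpr hr)
    exact ht0 ((IsUnit.mul_right_eq_zero hu).mp (show r * t = 0 from hz))
  have hsoc : ∀ x, (∀ r ∈ maximalIdeal A, r • x = 0) → x ∈ LinearMap.range s := fun x hx => by
    obtain ⟨c, rfl⟩ := htx x hx
    exact ⟨residue A c, rfl⟩
  obtain ⟨N, hN⟩ : IsNilpotent (maximalIdeal A) := (isArtinianRing_iff_isNilpotent_maximalIdeal A).1 ‹_›
  have htor : LocCoh.IsPowerTorsion (maximalIdeal A) A := fun x => ⟨N, fun a ha => by
    rw [hN] at ha; rw [(Submodule.mem_bot A).mp ha, zero_smul]⟩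
  have hull := InjHullLib.isInjectiveHull_of_length htor hs hsoc fun M => ⟨⊥, bot_le, ⟨N, hN.le⟩, le_of_eq
    (((Submodule.quotEquivOfEqBot (⊥ : Ideal A) rfl).length_eq).trans
      ((((LinearEquiv.congrLeft A A (Submodule.quotEquivOfEqBot (⊥ : Ideal A) rfl))).trans
        (LinearMap.ringLmapEquivSelf A A A)).length_eq).symm)⟩
  rw [← InjHullLib.length_dual hull (M := A ⧸ K) (isFiniteLength_iff_isNoetherian_isArtinian.mpr ⟨inferInstance, inferInstance⟩)]
  have hmem : ∀ φ : (A ⧸ K) →ₗ[A] A, φ (Ideal.Quotient.mk K 1) ∈ (⊥ : Ideal A).colon (K : Set A) := fun φ => by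
    rw [Submodule.mem_colon]
    intro y hy
    rw [Submodule.mem_bot, smul_eq_mul, mul_comm, ← smul_eq_mul, ← map_smul,
      show y • Ideal.Quotient.mk K 1 = Ideal.Quotient.mk K (y • 1) from rfl, smul_eq_mul, mul_one,
      Ideal.Quotient.eq_zero_iff_mem.2 hy, map_zero]
  refine ((LinearEquiv.ofBijective
    ({ toFun := fun φ => ⟨φ (Ideal.Quotient.mk K 1), hmem φ⟩
       map_add' := fun _ _ => rfl
       map_smul' := fun _ _ => rfl } : ((A ⧸ K) →ₗ[A] A) →ₗ[A] ↥((⊥ : Ideal A).colon (K : Set A))) ⟨?_, ?_⟩).length_eq).symm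
  · intro φ ψ h
    refine Submodule.linearMap_qext _ (LinearMap.ext_ring ?_)
    exact congrArg Subtype.val h
  · rintro ⟨x, hx⟩
    refine ⟨Submodule.liftQ K (LinearMap.toSpanSingleton A A x) fun y hy => ?_, Subtype.ext (one_mul x)⟩
    rw [LinearMap.mem_ker, LinearMap.toSpanSingleton_apply, smul_eq_mul, mul_comm, ← smul_eq_mul]
    exact (Submodule.mem_bot A).1 (Submodule.mem_colon.1 hx y hy)

theorem cancel {a b c : ℕ∞} (h : c ≠ ⊤) (e : a + c = b + c) : a = b := WithTop.add_right_cancel h e

/-- In a Gorenstein artinian ring, `length ann K` modulo `J` is governed by `K : J`. -/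
theorem length_ann_quot {A : Type u} [CommRing A] [IsLocalRing A] [IsArtinianRing A]
    (hG : LocCoh.IsGorensteinLocalRing A) (K J : Ideal A) :
    Module.length A (↥((⊥ : Ideal A).colon (K : Set A)) ⧸ (J • (⊤ : Submodule A ↥((⊥ : Ideal A).colon (K : Set A))))) +
      Module.length A (A ⧸ K.colon (J : Set A)) = Module.length A (A ⧸ K) := by
  set T := (⊥ : Ideal A).colon (K : Set A) with hT
  have hadd : ∀ X : Ideal A, Module.length A A = Module.length A X + Module.length A (A ⧸ X) := fun X =>
    Module.length_eq_add_of_exact _ _ (Submodule.subtype_injective X) (Submodule.mkQ_surjective X)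
      (LinearMap.exact_subtype_mkQ X)
  have hfin : ∀ X : Ideal A, Module.length A (A ⧸ X) ≠ ⊤ := fun X => Module.length_ne_top
  have hdd : (⊥ : Ideal A).colon (T : Set A) = K := by
    symm
    have hle : K ≤ (⊥ : Ideal A).colon (T : Set A) := fun x hx => Submodule.mem_colon.2 fun t ht => by
      have := Submodule.mem_colon.1 ht x hx
      rw [smul_eq_mul, mul_comm] at this
      rwa [smul_eq_mul]
    refine le_antisymm hle fun x hx => ?_
    have h1 : Module.length A ↥((⊥ : Ideal A).colon (T : Set A)) = Module.length A K := by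
      have hT' : Module.length A ↥T = Module.length A (A ⧸ K) := length_ann hG K
      have e2 := hadd K
      rw [hadd T, hT', add_comm (Module.length A (A ⧸ K)), ← length_ann hG T] at e2
      exact cancel (hfin K) e2
    by_contra hxK
    have hlt : Submodule.comap (Submodule.subtype ((⊥ : Ideal A).colon (T : Set A))) K ≠ ⊤ := fun h =>
      hxK (show (⟨x, hx⟩ : ↥((⊥ : Ideal A).colon (T : Set A))) ∈ Submodule.comap (Submodule.subtype ((⊥ : Ideal A).colon (T : Set A))) K from h ▸ trivial)
    have h2 := Submodule.length_lt hlt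
    rw [(Submodule.comapSubtypeEquivOfLe hle).length_eq, h1] at h2
    exact lt_irrefl _ h2
  have hann : (⊥ : Ideal A).colon ((J * T : Ideal A) : Set A) = K.colon (J : Set A) := by
    ext x
    rw [Submodule.mem_colon, Submodule.mem_colon]
    constructor
    · intro h j hj
      rw [← hdd]
      refine Submodule.mem_colon.2 fun t ht => ?_
      rw [smul_eq_mul, smul_eq_mul, mul_assoc]
      simpa using h (j * t) (Ideal.mul_mem_mul hj ht)
    · intro h y hy
      refine Submodule.smul_induction_on hy (fun j hj t ht => ?_) fun a b ha hb => ?_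
      · have h' := h j hj
        rw [← hdd] at h'
        have := Submodule.mem_colon.1 h' t ht
        rw [smul_eq_mul, smul_eq_mul] at this ⊢
        rwa [← mul_assoc]
      · rw [smul_add]; exact add_mem ha hb
  have e1 := Module.length_eq_add_of_exact _ _ (Submodule.subtype_injective (J • ⊤ : Submodule A ↥T))
    (Submodule.mkQ_surjective _) (LinearMap.exact_subtype_mkQ (J • ⊤ : Submodule A ↥T))
  have hJT : Module.length A ↥(J • ⊤ : Submodule A ↥T) = Module.length A ↥(J * T : Ideal A) := by
    rw [(Submodule.equivMapOfInjective T.subtype (Submodule.subtype_injective T) (J • ⊤)).length_eq,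
      Submodule.map_smul'', Submodule.map_subtype_top, smul_eq_mul]
  have e2 : Module.length A ↥(J * T : Ideal A) = Module.length A (A ⧸ K.colon (J : Set A)) := by
    have h1 := hadd (J * T)
    have h2 := hadd (K.colon (J : Set A))
    rw [← hann, length_ann hG] at h2
    rw [h1, add_comm (Module.length A (A ⧸ (J * T : Ideal A))) _, hann] at h2
    exact cancel (hfin (J * T)) h2
  have hTlen : Module.length A ↥T = Module.length A (A ⧸ K) := length_ann hG K
  rw [← hTlen, e1, hJT, e2, add_comm]

variable {R : Type u} [CommRing R]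

/-- A functional on a submodule containing `a F` and `b F` extends, for a regular sequence `a, b`. -/
theorem exists_extend {F : Type u} [AddCommGroup F] [Module R F] {a b : R} (ha : IsSMulRegular R a)
    (hab : ∀ x : R, b * x ∈ Ideal.span {a} → x ∈ Ideal.span {a})
    (L : Submodule R F) (hLa : ∀ c, a • c ∈ L) (hLb : ∀ c, b • c ∈ L) (v : L →ₗ[R] R) :
    ∃ w : F →ₗ[R] R, ∀ x : L, w x = v x := by
  have hex : ∀ c, ∃ C, a * C = v ⟨a • c, hLa c⟩ := fun c => by
    have h1 : b * v ⟨a • c, hLa c⟩ = a * v ⟨b • c, hLb c⟩ := by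
      rw [← smul_eq_mul, ← map_smul, ← smul_eq_mul, ← map_smul]
      exact congrArg v (Subtype.ext (smul_comm b a c))
    obtain ⟨C, hC⟩ := Ideal.mem_span_singleton'.1 (hab _ (Ideal.mem_span_singleton'.2 ⟨v ⟨b • c, hLb c⟩, by rw [mul_comm, ← h1]⟩))
    exact ⟨C, by rw [← hC, mul_comm]⟩
  choose C hC using hex
  refine ⟨{ toFun := C, map_add' := fun c d => ha ?_, map_smul' := fun r c => ha ?_ }, fun x => ha ?_⟩
  · show a * C (c + d) = a * (C c + C d)
    rw [mul_add, hC, hC, hC, ← map_add]
    exact congrArg v (Subtype.ext (smul_add a c d))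
  · show a * C (r • c) = a * (r * C c)
    rw [mul_left_comm, hC, hC, ← smul_eq_mul, ← map_smul]
    exact congrArg v (Subtype.ext (smul_comm a r c))
  · show a * C x = a * v x
    rw [hC, ← smul_eq_mul a (v x), ← map_smul]
    rfl

/-- The functionals on `ker g` modulo those extending to `F`, as `(Q : I) / Q`. -/
theorem exists_theta {F : Type u} [AddCommGroup F] [Module R F] [Module.Free R F] [Module.Finite R F] [IsDomain R]
    {a b : R} (ha : IsSMulRegular R a) (hab : ∀ x : R, b * x ∈ Ideal.span {a} → x ∈ Ideal.span {a})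
    {I : Ideal R} (haI : a ∈ I) (hbI : b ∈ I) (g : F →ₗ[R] I) (hg : Function.Surjective g) :
    ∃ θ : (LinearMap.ker g →ₗ[R] R) →ₗ[R] (R ⧸ Ideal.span ({a, b} : Set R)),
      LinearMap.ker θ = LinearMap.range (LinearMap.lcomp R R (LinearMap.ker g).subtype) ∧
      LinearMap.range θ = Submodule.map (Ideal.span ({a, b} : Set R)).mkQ
        ((Ideal.span ({a, b} : Set R)).colon (I : Set R)) := by
  classical
  have ha0 : a ≠ 0 := fun h => one_ne_zero (ha (show a • (1 : R) = a • 0 by simp [h]))
  obtain ⟨fa, hfa⟩ := hg ⟨a, haI⟩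
  obtain ⟨fb, hfb⟩ := hg ⟨b, hbI⟩
  set Q := Ideal.span ({a, b} : Set R) with hQ
  let K := LinearMap.ker g
  have hw : b • fa - a • fb ∈ K := LinearMap.mem_ker.2 (Subtype.ext (by simp [hfa, hfb, mul_comm]))
  let w : K := ⟨b • fa - a • fb, hw⟩
  let θ : (K →ₗ[R] R) →ₗ[R] (R ⧸ Q) := Q.mkQ ∘ₗ LinearMap.applyₗ w
  refine ⟨θ, le_antisymm (fun u hu => ?_) ?_, le_antisymm ?_ ?_⟩
  · obtain ⟨p, q, hpq⟩ := Ideal.mem_span_pair.1 ((Submodule.Quotient.mk_eq_zero Q).1 hu)
    -- the extension to `K + R fa + R fb`
    let P : (K × R × R) →ₗ[R] F := K.subtype.coprod ((LinearMap.toSpanSingleton R F fa).coprod (LinearMap.toSpanSingleton R F fb))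
    let V : (K × R × R) →ₗ[R] R := u.coprod ((LinearMap.toSpanSingleton R R q).coprod (LinearMap.toSpanSingleton R R (-p)))
    have hPV : LinearMap.ker P ≤ LinearMap.ker V := by
      rintro ⟨x, r, s⟩ h
      rw [LinearMap.mem_ker] at h ⊢
      change (x : F) + (r • fa + s • fb) = 0 at h
      show u x + (r • q + s • (-p)) = 0
      have h0 : r * a + s * b = 0 := by
        have := congrArg Subtype.val (congrArg g h)
        simpa [map_add, map_smul, LinearMap.mem_ker.1 x.2, hfa, hfb] using this
      obtain ⟨t, ht⟩ := Ideal.mem_span_singleton'.1 (hab s (Ideal.mem_span_singleton'.2 ⟨-r, by linear_combination -h0⟩))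
      have hr : r = -(t * b) := mul_left_cancel₀ ha0 (by rw [← ht] at h0; linear_combination h0)
      have hx : x = t • w := Subtype.ext (by
        show (x : F) = t • (b • fa - a • fb)
        rw [eq_neg_of_add_eq_zero_left h, hr, ← ht, smul_sub, smul_smul, smul_smul, neg_smul]
        abel)
      rw [hx, map_smul, hr, ← ht, smul_eq_mul, smul_eq_mul, smul_eq_mul]
      change p * a + q * b = u w at hpq
      rw [← hpq]
      ring
    let L := LinearMap.range P
    let v : L →ₗ[R] R := ((LinearMap.ker P).liftQ V hPV) ∘ₗ P.quotKerEquivRange.symm.toLinearMap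
    have hv : ∀ z, v ⟨P z, LinearMap.mem_range_self P z⟩ = V z := fun z => by
      show (LinearMap.ker P).liftQ V hPV (P.quotKerEquivRange.symm ⟨P z, _⟩) = V z
      rw [LinearMap.quotKerEquivRange_symm_apply_image]
      rfl
    have hL : ∀ c d : R, ∀ x : F, (g x : R) = c * a + d * b → x ∈ L := fun c d x hx => by
      refine ⟨(⟨x - c • fa - d • fb, LinearMap.mem_ker.2 (Subtype.ext ?_)⟩, c, d), ?_⟩
      · simp [hfa, hfb, hx]
      · show (x - c • fa - d • fb) + (c • fa + d • fb) = x
        abel
    obtain ⟨W, hW⟩ := exists_extend ha hab L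
      (fun c => hL (g c : R) 0 _ (by simp [mul_comm]))
      (fun c => hL 0 (g c : R) _ (by simp [mul_comm])) v
    refine ⟨W, LinearMap.ext fun x => ?_⟩
    have := hW ⟨P (x, 0, 0), LinearMap.mem_range_self P _⟩
    rw [hv] at this
    simpa [P, V] using this
  · rintro _ ⟨W, rfl⟩
    refine LinearMap.mem_ker.2 ((Submodule.Quotient.mk_eq_zero Q).2 ?_)
    show W (b • fa - a • fb) ∈ Q
    rw [map_sub, map_smul, map_smul]
    exact sub_mem (Ideal.mul_mem_right _ _ (Ideal.subset_span (by simp))) (Ideal.mul_mem_right _ _ (Ideal.subset_span (by simp)))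
  · rintro _ ⟨u, rfl⟩
    refine Submodule.mem_map_of_mem (Submodule.mem_colon.2 fun y hy => ?_)
    obtain ⟨c, hc⟩ := hg ⟨y, hy⟩
    -- `y • w = a x + b x'` in `ker g`
    have hx : ∀ (e : F) (r : R), (g e : R) = r → r • c - y • e ∈ K := fun e r he =>
      LinearMap.mem_ker.2 (Subtype.ext (by simp [hc, he, mul_comm]))
    have e : y • w = a • (⟨b • c - y • fb, hx fb b (congrArg Subtype.val hfb)⟩ : K) -
        b • (⟨a • c - y • fa, hx fa a (congrArg Subtype.val hfa)⟩ : K) := Subtype.ext (by
      show y • (b • fa - a • fb) = a • (b • c - y • fb) - b • (a • c - y • fa)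
      simp only [smul_sub, smul_smul, mul_comm a b, mul_comm y b, mul_comm y a]
      abel)
    show u w • y ∈ Q
    rw [smul_eq_mul, mul_comm, ← smul_eq_mul, ← map_smul, e, map_sub, map_smul, map_smul]
    exact sub_mem (Ideal.mul_mem_right _ _ (Ideal.subset_span (by simp))) (Ideal.mul_mem_right _ _ (Ideal.subset_span (by simp)))
  · rintro _ ⟨z, hz, rfl⟩
    let B := Module.Free.chooseBasis R F
    have hpq : ∀ i, ∃ p q : R, p * a + q * b = z * (g (B i) : R) := fun i =>
      Ideal.mem_span_pair.1 (by simpa using Submodule.mem_colon.1 hz _ (g (B i)).2)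
    choose p q hpq using hpq
    let Pp := B.constr R p
    let Qq := B.constr R q
    have hlin : ∀ x : F, Pp x * a + Qq x * b = z * (g x : R) := by
      have : LinearMap.toSpanSingleton R R a ∘ₗ Pp + LinearMap.toSpanSingleton R R b ∘ₗ Qq = z • (Submodule.subtype I ∘ₗ g) :=
        B.ext fun i => by simp [Pp, Qq, hpq i]
      intro x
      simpa using LinearMap.congr_fun this x
    have ht : ∀ x : K, ∃ t, a * t = Qq x := fun x => by
      have h0 := hlin x
      rw [show (g (x : F) : R) = 0 by rw [LinearMap.mem_ker.1 x.2]; rfl, mul_zero] at h0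
      obtain ⟨t, ht⟩ := Ideal.mem_span_singleton'.1 (hab (Qq x) (Ideal.mem_span_singleton'.2 ⟨-Pp x, by linear_combination -h0⟩))
      exact ⟨t, by rw [← ht, mul_comm]⟩
    choose t ht using ht
    let u : K →ₗ[R] R :=
      { toFun := fun x => -t x
        map_add' := fun x y => ha (by
          show a * -t (x + y) = a * (-t x + -t y)
          rw [mul_neg, ht, mul_add, mul_neg, mul_neg, ht, ht, Submodule.coe_add, map_add]
          ring)
        map_smul' := fun r x => ha (by
          show a * -t (r • x) = a * (r * -t x)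
          rw [mul_neg, ht, mul_left_comm, mul_neg, ht, Submodule.coe_smul, map_smul, smul_eq_mul]
          ring) }
    refine ⟨u, (Submodule.Quotient.eq Q).2 ?_⟩
    show -t w - z ∈ Q
    have ha' := hlin fa
    have hb' := hlin fb
    rw [hfa] at ha'
    rw [hfb] at hb'
    change Pp fa * a + Qq fa * b = z * a at ha'
    change Pp fb * a + Qq fb * b = z * b at hb'
    have hw' : Qq (w : F) = b * Qq fa - a * Qq fb := by
      show Qq (b • fa - a • fb) = _
      rw [map_sub, map_smul, map_smul, smul_eq_mul, smul_eq_mul]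
    obtain ⟨s, hs⟩ := Ideal.mem_span_singleton'.1 (hab (Qq fa) (Ideal.mem_span_singleton'.2 ⟨z - Pp fa, by linear_combination -ha'⟩))
    have e1 : t w = b * s - Qq fb := mul_left_cancel₀ ha0 (by rw [ht, hw', ← hs]; ring)
    obtain ⟨r, hr⟩ := Ideal.mem_span_singleton'.1 (hab (z - Qq fb) (Ideal.mem_span_singleton'.2 ⟨Pp fb, by linear_combination hb'⟩))
    rw [e1, show -(b * s - Qq fb) - z = -(s * b) - r * a by linear_combination hr]
    exact sub_mem (neg_mem (Ideal.mul_mem_left _ _ (Ideal.subset_span (by simp)))) (Ideal.mul_mem_left _ _ (Ideal.subset_span (by simp)))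

end Groth.Agent.RegTwoHomLib
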