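import Groth.Agent.RegTwoHomLib.Basic

/-!
# `length Hom(I, R/J) + length R/(I : J) = length R/J + length R/I`
-/

set_option autoImplicit false

universe u

open IsLocalRing RingTheory.Sequence

namespace Groth.Agent.RegTwoHomLib

variable {R : Type u} [CommRing R]

theorem length_quot_map (Q X : Ideal R) (hQX : Q ≤ X) :
    Module.length (R ⧸ Q) ((R ⧸ Q) ⧸ X.map (Ideal.Quotient.mk Q)) = Module.length R (R ⧸ X) := by
  rw [← Module.length_eq_of_surjective (S := R) (R := R ⧸ Q) Ideal.Quotient.mk_surjective]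
  let f : R →ₗ[R] (R ⧸ Q) ⧸ X.map (Ideal.Quotient.mk Q) := (Algebra.linearMap R _)
  have hf : Function.Surjective f := fun x => by
    obtain ⟨y, rfl⟩ := Ideal.Quotient.mk_surjective x
    obtain ⟨r, rfl⟩ := Ideal.Quotient.mk_surjective y
    exact ⟨r, rfl⟩
  have hker : LinearMap.ker f = X := by
    ext r
    rw [LinearMap.mem_ker]
    show Ideal.Quotient.mk (X.map (Ideal.Quotient.mk Q)) (Ideal.Quotient.mk Q r) = 0 ↔ _
    rw [Ideal.Quotient.eq_zero_iff_mem, ← Ideal.mem_comap, Ideal.comap_map_of_surjective _ Ideal.Quotient.mk_surjective,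
      ← RingHom.ker_eq_comap_bot, Ideal.mk_ker, sup_eq_left.2 hQX]
  rw [← (f.quotKerEquivOfSurjective hf).length_eq, hker]

theorem map_colon_mk (Q X J : Ideal R) (hQX : Q ≤ X) :
    (X.map (Ideal.Quotient.mk Q)).colon ((J.map (Ideal.Quotient.mk Q) : Ideal (R ⧸ Q)) : Set (R ⧸ Q)) =
      (X.colon (J : Set R)).map (Ideal.Quotient.mk Q) := by
  have hmem : ∀ r, Ideal.Quotient.mk Q r ∈ X.map (Ideal.Quotient.mk Q) ↔ r ∈ X := fun r => by
    rw [← Ideal.mem_comap, Ideal.comap_map_of_surjective _ Ideal.Quotient.mk_surjective,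
      ← RingHom.ker_eq_comap_bot, Ideal.mk_ker, sup_eq_left.2 hQX]
  ext x
  obtain ⟨r, rfl⟩ := Ideal.Quotient.mk_surjective x
  rw [Submodule.mem_colon]
  constructor
  · intro h
    refine Ideal.mem_map_of_mem _ (Submodule.mem_colon.2 fun j hj => ?_)
    have h' := h _ (Ideal.mem_map_of_mem _ hj)
    rw [smul_eq_mul, ← map_mul, hmem] at h'
    exact h'
  · intro h y hy
    obtain ⟨r', hr', e⟩ := (Ideal.mem_map_iff_of_surjective _ Ideal.Quotient.mk_surjective).1 h
    obtain ⟨j, hj, rfl⟩ := (Ideal.mem_map_iff_of_surjective _ Ideal.Quotient.mk_surjective).1 hy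
    rw [← e, smul_eq_mul, ← map_mul, hmem]
    exact Submodule.mem_colon.1 hr' j hj

theorem length_four {X Y Z : Type u} [AddCommGroup X] [Module R X] [AddCommGroup Y] [Module R Y] [AddCommGroup Z]
    [Module R Z] (p : X →ₗ[R] Y) (f : Y →ₗ[R] Z) (hp : Function.Injective p)
    (hex : LinearMap.ker f = LinearMap.range p) :
    Module.length R Y = Module.length R X + Module.length R (LinearMap.range f) ∧
      Module.length R Z = Module.length R (LinearMap.range f) + Module.length R (Z ⧸ LinearMap.range f) :=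
  ⟨Module.length_eq_add_of_exact p f.rangeRestrict hp f.surjective_rangeRestrict
      (LinearMap.exact_iff.2 (by rw [LinearMap.ker_rangeRestrict, hex])),
    Module.length_eq_add_of_exact _ _ (Submodule.subtype_injective _) (Submodule.mkQ_surjective _)
      (LinearMap.exact_subtype_mkQ _)⟩

variable [IsRegularLocalRing R]

theorem exists_parameters (hdim : ringKrullDim R = 2) (I : Ideal R) (hI : IsFiniteLength R (R ⧸ I)) :
    ∃ a b : R, a ∈ I ∧ b ∈ I ∧ IsSMulRegular R a ∧ (∀ x : R, b * x ∈ Ideal.span {a} → x ∈ Ideal.span {a}) ∧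
      a ∈ maximalIdeal R ∧ b ∈ maximalIdeal R ∧
      IsArtinianRing (R ⧸ Ideal.span ({a, b} : Set R)) ∧ LocCoh.IsGorensteinLocalRing (R ⧸ Ideal.span ({a, b} : Set R)) := by
  classical
  obtain ⟨s, hscard, hspan⟩ := Submodule.FG.exists_span_finset_card_eq_spanFinrank (IsNoetherian.noetherian (maximalIdeal R))
  have hs2 : s.card = 2 := by
    have h := IsRegularLocalRing.spanFinrank_maximalIdeal (R := R)
    rw [hdim, ← hscard] at h
    exact_mod_cast h
  obtain ⟨x, y, -, rfl⟩ := Finset.card_eq_two.1 hs2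
  replace hspan : Ideal.span {x} ⊔ Ideal.span {y} = maximalIdeal R := by
    rw [← Ideal.span_union, Set.union_singleton, Set.pair_comm, ← hspan]
    simp [Ideal.span]
  haveI : IsArtinian R (R ⧸ I) := (isFiniteLength_iff_isNoetherian_isArtinian.1 hI).2
  obtain ⟨M, hM⟩ : ∃ M : ℕ, maximalIdeal R ^ (M + 1) ≤ I := by
    rcases eq_or_ne I ⊤ with rfl | hne
    · exact ⟨0, le_top⟩
    haveI : Nontrivial (R ⧸ I) := Ideal.Quotient.nontrivial_iff.2 hne
    haveI : IsLocalRing (R ⧸ I) := .of_surjective' (Ideal.Quotient.mk I) Ideal.Quotient.mk_surjective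
    haveI : IsArtinianRing (R ⧸ I) := isArtinian_of_tower R ‹_›
    obtain ⟨n, hn⟩ := (isArtinianRing_iff_isNilpotent_maximalIdeal (R ⧸ I)).1 ‹_›
    refine ⟨n, (Ideal.pow_le_pow_right n.le_succ).trans fun r hr => Ideal.Quotient.eq_zero_iff_mem.1 ?_⟩
    have h := Ideal.mem_map_of_mem (Ideal.Quotient.mk I) hr
    rw [Ideal.map_pow] at h
    have hle : (maximalIdeal R).map (Ideal.Quotient.mk I) ≤ maximalIdeal (R ⧸ I) :=
      le_maximalIdeal ((Ideal.map_eq_top_or_isMaximal_of_surjective _ Ideal.Quotient.mk_surjective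
        (maximalIdeal.isMaximal R)).elim (fun ht => absurd ht fun ht => by
          have := congrArg (Ideal.comap (Ideal.Quotient.mk I)) ht
          rw [Ideal.comap_map_of_surjective _ Ideal.Quotient.mk_surjective, ← RingHom.ker_eq_comap_bot, Ideal.mk_ker,
            Ideal.comap_top, sup_eq_left.2 (le_maximalIdeal hne)] at this
          exact (maximalIdeal.isMaximal R).ne_top this) (fun hm => hm.ne_top))
    have := Ideal.pow_right_mono hle n h
    rwa [hn, Submodule.zero_eq_bot, Submodule.mem_bot] at this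
  have hx : x ∈ maximalIdeal R := hspan ▸ Ideal.mem_sup_left (Ideal.mem_span_singleton_self x)
  have hy : y ∈ maximalIdeal R := hspan ▸ Ideal.mem_sup_right (Ideal.mem_span_singleton_self y)
  set a := x ^ (M + 1) with ha
  set b := y ^ (M + 1) with hb
  have haI : a ∈ I := hM (Ideal.pow_mem_pow hx _)
  have hbI : b ∈ I := hM (Ideal.pow_mem_pow hy _)
  have hm : ∀ r ∈ [a, b], r ∈ maximalIdeal R := fun r hr => by
    simp only [List.mem_cons, List.not_mem_nil, or_false] at hr
    rcases hr with rfl | rfl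
    · exact Ideal.pow_mem_of_mem _ hx _ (Nat.succ_pos _)
    · exact Ideal.pow_mem_of_mem _ hy _ (Nat.succ_pos _)
  have hQ : Ideal.ofList [a, b] = Ideal.span ({a, b} : Set R) := by
    rw [Ideal.ofList]; congr 1; ext r; simp
  haveI : Nontrivial (R ⧸ Ideal.ofList [a, b]) := Ideal.Quotient.nontrivial_iff.2 fun h =>
    (maximalIdeal.isMaximal R).ne_top (top_le_iff.1 (h ▸ Ideal.span_le.2 fun r hr => hm r hr))
  haveI : IsLocalRing (R ⧸ Ideal.ofList [a, b]) := .of_surjective' (Ideal.Quotient.mk _) Ideal.Quotient.mk_surjective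
  haveI hart : IsArtinianRing (R ⧸ Ideal.ofList [a, b]) := by
    refine (isArtinianRing_iff_isNilpotent_maximalIdeal _).2 ⟨(M + 1) + (M + 1), ?_⟩
    have hmap : maximalIdeal (R ⧸ Ideal.ofList [a, b]) ≤ (maximalIdeal R).map (Ideal.Quotient.mk _) := fun z hz => by
      obtain ⟨r, rfl⟩ := Ideal.Quotient.mk_surjective z
      exact Ideal.mem_map_of_mem _ fun hu => hz (hu.map _)
    rw [Submodule.zero_eq_bot, eq_bot_iff]
    refine (Ideal.pow_right_mono hmap _).trans ?_
    rw [← Ideal.map_pow, Ideal.map_le_iff_le_comap, ← RingHom.ker_eq_comap_bot, Ideal.mk_ker, ← hspan]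
    refine Ideal.sup_pow_add_le_pow_sup_pow.trans (sup_le ?_ ?_) <;>
      rw [Ideal.span_singleton_pow, Ideal.span_singleton_le_iff_mem] <;> exact Ideal.subset_span (by simp [a, b])
  have hG := GorLib.gorensteinLocal_of_regular R
  haveI : LocCoh.IsCohenMacaulayLocalRing R := GorLib.isCohenMacaulay R hG
  have hw : IsWeaklyRegular R [a, b] := DeformLib.isWeaklyRegular_of_ringKrullDim [a, b] hm (by
    haveI : Ring.KrullDimLE 0 (R ⧸ Ideal.ofList [a, b]) := inferInstance
    rw [ringKrullDimZero_iff_ringKrullDim_eq_zero.1 ‹_›, hdim]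
    rfl)
  have hwab := (isWeaklyRegular_cons_iff R a [b]).1 hw
  refine ⟨a, b, haI, hbI, hwab.1, fun z hz => ?_, hm a (by simp), hm b (by simp), hQ ▸ hart,
    hQ ▸ GorLib.gorenstein_quot_seq 2 R hG [a, b] rfl hm hw⟩
  have hb' := ((isWeaklyRegular_cons_iff _ b []).1 hwab.2).1
  have hz0 : b • (Submodule.Quotient.mk z : QuotSMulTop a R) = b • (0 : QuotSMulTop a R) := by
    rw [smul_zero, ← Submodule.Quotient.mk_smul, Submodule.Quotient.mk_eq_zero]
    obtain ⟨c, hc⟩ := Ideal.mem_span_singleton'.1 hz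
    exact ⟨c, trivial, show a * c = b * z by rw [← hc, mul_comm]⟩
  obtain ⟨c, -, hc⟩ := (Submodule.Quotient.mk_eq_zero _).1 (hb' hz0)
  exact Ideal.mem_span_singleton'.2 ⟨c, by rw [← hc]; exact mul_comm _ _⟩

theorem length_hom (hdim : ringKrullDim R = 2) (I J : Ideal R)
    (hI : Module.length R (R ⧸ I) < ⊤) (hJ : Module.length R (R ⧸ J) < ⊤) :
    Module.length R (↥I →ₗ[R] (R ⧸ J)) + Module.length R (R ⧸ I.colon (J : Set R)) =
      Module.length R (R ⧸ J) + Module.length R (R ⧸ I) := by
  classical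
  haveI : IsDomain R := RegLocal.isDomain R
  obtain ⟨a, b, haI, hbI, ha, hab, hma, hmb, hart, hGor⟩ :=
    exists_parameters hdim I (Module.length_ne_top_iff.1 hI.ne)
  set Q := Ideal.span ({a, b} : Set R) with hQdef
  have hQI : Q ≤ I := Ideal.span_le.2 (by rintro r (rfl | rfl) <;> assumption)
  have ha0 : a ≠ 0 := fun h => one_ne_zero (ha (show a • (1 : R) = a • 0 by simp [h]))
  obtain ⟨m, g, hg⟩ := Module.Finite.exists_fin' R I
  let K := LinearMap.ker g
  have hKfree : Module.Free R K := by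
    haveI := RegLocal.finite_hasProjectiveDimensionLT 2 R hdim (R ⧸ I)
    have h1 : CategoryTheory.HasProjectiveDimensionLT (ModuleCat.of R (LinearMap.ker (Submodule.mkQ I))) 2 :=
      (RegLocal.syzygy_iff (Submodule.mkQ I) (Submodule.mkQ_surjective I) 1).1 inferInstance
    have e : (ModuleCat.of R (LinearMap.ker (Submodule.mkQ I))) ≅ ModuleCat.of R I :=
      (LinearEquiv.ofEq _ _ (Submodule.ker_mkQ I)).toModuleIso
    have h2 : CategoryTheory.HasProjectiveDimensionLT (ModuleCat.of R I) 2 :=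
      CategoryTheory.hasProjectiveDimensionLT_of_iso e 2
    exact RegLocal.free_of_projDimLT_one _ ((RegLocal.syzygy_iff g hg 0).1 h2)
  obtain ⟨θ, hθk, hθr⟩ := exists_theta ha hab haI hbI g hg
  let B := Module.Free.chooseBasis R K
  set ι := Module.Free.ChooseBasisIndex R K
  -- ranks
  have hrank : m = Fintype.card ι + 1 := by
    have h1 := Submodule.finrank_quotient_add_finrank K
    rw [(g.quotKerEquivOfSurjective hg).finrank_eq, Module.finrank_fin_fun, Module.finrank_eq_card_basis B] at h1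
    have hI1 : Module.finrank R I = 1 := by
      refine le_antisymm (le_of_le_of_eq (LinearMap.finrank_le_finrank_of_injective (f := I.subtype) (Submodule.subtype_injective I)) (Module.finrank_self R)) ?_
      rw [← Module.finrank_self R]
      refine LinearMap.finrank_le_finrank_of_injective (f := LinearMap.toSpanSingleton R I ⟨a, haI⟩) fun r s h => ?_
      exact mul_right_cancel₀ ha0 (congrArg Subtype.val h :)
    omega
  let N := R ⧸ J
  let pre : (↥I →ₗ[R] N) →ₗ[R] ((Fin m → R) →ₗ[R] N) := LinearMap.lcomp R N g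
  let res : ((Fin m → R) →ₗ[R] N) →ₗ[R] (K →ₗ[R] N) := LinearMap.lcomp R N K.subtype
  have hpre : Function.Injective pre := fun φ ψ h => LinearMap.ext fun x => by
    obtain ⟨c, rfl⟩ := hg x
    exact LinearMap.congr_fun h c
  have hex : LinearMap.ker res = LinearMap.range pre := by
    refine le_antisymm (fun φ hφ => ?_) ?_
    · have hle : LinearMap.ker g ≤ LinearMap.ker φ := fun x hx => LinearMap.congr_fun hφ ⟨x, hx⟩
      refine ⟨(LinearMap.ker g).liftQ φ hle ∘ₗ (g.quotKerEquivOfSurjective hg).symm.toLinearMap, LinearMap.ext fun c => ?_⟩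
      show (LinearMap.ker g).liftQ φ hle ((g.quotKerEquivOfSurjective hg).symm (g c)) = φ c
      rw [show g c = g.quotKerEquivOfSurjective hg (Submodule.Quotient.mk c) from rfl, LinearEquiv.symm_apply_apply]
      rfl
    · rintro _ ⟨φ, rfl⟩
      exact LinearMap.ext fun x => by
        show φ (g x) = 0
        rw [LinearMap.mem_ker.1 x.2, map_zero]
  have hlen : ∀ {κ : Type u} [Fintype κ] (V : Type u) [AddCommGroup V] [Module R V], Module.Basis κ R V →
      Module.length R (V →ₗ[R] N) = Fintype.card κ * Module.length R N := fun {κ} _ V _ _ B' => by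
    rw [← (B'.constr R (M' := N)).length_eq, Module.length_pi_of_fintype, Finset.sum_const, Finset.card_univ, nsmul_eq_mul]
  obtain ⟨e1, e2⟩ := length_four pre res hpre hex
  have hF : Module.length R ((Fin m → R) →ₗ[R] N) = m * Module.length R N := by
    have h := hlen (κ := ULift.{u} (Fin m)) (Fin m → R) ((Pi.basisFun R (Fin m)).reindex Equiv.ulift.symm)
    rwa [Fintype.card_ulift, Fintype.card_fin] at h
  rw [hF] at e1
  rw [hlen K B] at e2
  -- the cokernel
  let P : (K →ₗ[R] R) →ₗ[R] (K →ₗ[R] N) := LinearMap.compRight R (Submodule.mkQ J)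
  have hP : Function.Surjective P := fun φ => by
    choose c hc using fun i => Submodule.mkQ_surjective J (φ (B i))
    exact ⟨B.constr R c, B.ext fun i => by simp [P, hc]⟩
  let Ψ : (K →ₗ[R] R) →ₗ[R] ((K →ₗ[R] N) ⧸ LinearMap.range res) := (LinearMap.range res).mkQ ∘ₗ P
  have hΨ : Function.Surjective Ψ := (Submodule.mkQ_surjective _).comp hP
  let resR : ((Fin m → R) →ₗ[R] R) →ₗ[R] (K →ₗ[R] R) := LinearMap.lcomp R R K.subtype
  have hΨk : LinearMap.ker Ψ = LinearMap.range resR ⊔ J • ⊤ := by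
    have hPk : LinearMap.ker P ≤ J • ⊤ := fun u hu => by
      have hu' : ∀ i, u (B i) ∈ J := fun i => (Submodule.Quotient.mk_eq_zero J).1 (LinearMap.congr_fun hu (B i))
      rw [show u = ∑ i, u (B i) • B.coord i from B.ext fun j => by simp [Finsupp.single_apply]]
      exact Submodule.sum_mem _ fun i _ => Submodule.smul_mem_smul (hu' i) trivial
    refine le_antisymm (fun u hu => ?_) (sup_le ?_ ?_)
    · obtain ⟨φ, hφ⟩ := (Submodule.Quotient.mk_eq_zero _).1 (LinearMap.mem_ker.1 hu)
      choose c hc using fun i => Submodule.mkQ_surjective J (φ (Pi.basisFun R (Fin m) i))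
      let W := (Pi.basisFun R (Fin m)).constr R c
      have hW : Submodule.mkQ J ∘ₗ W = φ := (Pi.basisFun R (Fin m)).ext fun i => by
        rw [LinearMap.comp_apply, Module.Basis.constr_basis, hc]
      have hd : u - resR W ∈ LinearMap.ker P := by
        rw [LinearMap.mem_ker, map_sub, sub_eq_zero]
        rw [← hφ, ← hW]
        rfl
      rw [← sub_add_cancel u (resR W), sup_comm]
      exact Submodule.add_mem_sup (hPk hd) ⟨W, rfl⟩
    · rintro _ ⟨W, rfl⟩
      exact (Submodule.Quotient.mk_eq_zero _).2 ⟨Submodule.mkQ J ∘ₗ W, rfl⟩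
    · refine Submodule.smul_le.2 fun r hr u _ => LinearMap.mem_ker.2 ?_
      rw [show Ψ (r • u) = (LinearMap.range res).mkQ (P (r • u)) from rfl,
        show P (r • u) = 0 from LinearMap.ext fun x => (Submodule.Quotient.mk_eq_zero J).2 (J.mul_mem_right _ hr), map_zero]
  -- into the Gorenstein quotient
  let A := R ⧸ Q
  haveI := hart
  haveI : IsLocalRing A := hGor.toIsLocalRing
  let Ibar : Ideal A := I.map (Ideal.Quotient.mk Q)
  let Jbar : Ideal A := J.map (Ideal.Quotient.mk Q)
  let T : Ideal A := (⊥ : Ideal A).colon (Ibar : Set A)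
  have hT : ∀ r : R, Ideal.Quotient.mk Q r ∈ T ↔ r ∈ Q.colon (I : Set R) := fun r => by
    simp only [T, Submodule.mem_colon, Submodule.mem_bot, smul_eq_mul]
    refine ⟨fun h x hx => ?_, fun h y hy => ?_⟩
    · have h' := h _ (Ideal.mem_map_of_mem _ hx)
      rwa [← map_mul, Ideal.Quotient.eq_zero_iff_mem] at h'
    · obtain ⟨x, hx, rfl⟩ := (Ideal.mem_map_iff_of_surjective _ Ideal.Quotient.mk_surjective).1 hy
      rw [← map_mul, Ideal.Quotient.eq_zero_iff_mem]
      exact h x hx
  have hθT : ∀ u, θ u ∈ T.restrictScalars R := fun u => by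
    have h : θ u ∈ Submodule.map Q.mkQ (Q.colon (I : Set R)) := hθr ▸ LinearMap.mem_range_self θ u
    obtain ⟨r, hr, e⟩ := h
    rw [← e]
    exact (hT r).2 hr
  let θT : (K →ₗ[R] R) →ₗ[R] ↥(T.restrictScalars R) := θ.codRestrict _ hθT
  have hθTs : Function.Surjective θT := fun ⟨x, hx⟩ => by
    obtain ⟨r, rfl⟩ := Ideal.Quotient.mk_surjective x
    obtain ⟨u, hu⟩ : Ideal.Quotient.mk Q r ∈ LinearMap.range θ := hθr ▸ ⟨r, (hT r).1 hx, rfl⟩
    exact ⟨u, Subtype.ext hu⟩
  let Φ : (K →ₗ[R] R) →ₗ[R] (↥T ⧸ (Jbar • (⊤ : Submodule A ↥T))) :=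
    ((Jbar • (⊤ : Submodule A ↥T)).mkQ.restrictScalars R) ∘ₗ θT
  have hΦ : Function.Surjective Φ := (Submodule.mkQ_surjective _).comp hθTs
  have hΦk : LinearMap.ker Φ = LinearMap.range resR ⊔ J • ⊤ := by
    have h1 : (Jbar • (⊤ : Submodule A ↥T)).restrictScalars R = Submodule.map θT (J • ⊤) := by
      rw [Submodule.map_smul'', Submodule.map_top, LinearMap.range_eq_top.2 hθTs]
      exact (Ideal.smul_restrictScalars (R := R) (S := A) J ⊤).trans (by rw [Submodule.restrictScalars_top]; rfl)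
    refine (LinearMap.ker_comp θT _).trans ?_
    have h2 : LinearMap.ker ((Jbar • (⊤ : Submodule A ↥T)).mkQ.restrictScalars R) =
        (Jbar • (⊤ : Submodule A ↥T)).restrictScalars R := by rw [LinearMap.ker_restrictScalars, Submodule.ker_mkQ]
    refine (congrArg (Submodule.comap θT) (h2.trans h1)).trans ?_
    rw [Submodule.comap_map_eq, LinearMap.ker_codRestrict, hθk, sup_comm]
  have hcoker : Module.length R ((K →ₗ[R] N) ⧸ LinearMap.range res) =
      Module.length R (↥T ⧸ (Jbar • (⊤ : Submodule A ↥T))) := by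
    rw [← (Ψ.quotKerEquivOfSurjective hΨ).length_eq, ← (Φ.quotKerEquivOfSurjective hΦ).length_eq, hΨk, hΦk]
  have hmain := length_ann_quot hGor Ibar Jbar
  rw [map_colon_mk Q I J hQI, length_quot_map Q I hQI,
    length_quot_map Q (I.colon (J : Set R)) (hQI.trans fun x hx => Submodule.mem_colon.2 fun j _ => I.mul_mem_right j hx),
    ← Module.length_eq_of_surjective (S := R) (R := A) Ideal.Quotient.mk_surjective, ← hcoker] at hmain
  -- arithmetic
  have hN := hJ.ne
  have hr : Module.length R (LinearMap.range res) ≠ ⊤ := fun h => by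
    rw [h, add_top] at e1
    exact WithTop.mul_ne_top (WithTop.natCast_ne_top m) hN e1
  rw [show (m : ℕ∞) = (Fintype.card ι : ℕ∞) + 1 by exact_mod_cast hrank, add_mul, one_mul, e2] at e1
  refine cancel hr ?_
  rw [← hmain]
  calc Module.length R (↥I →ₗ[R] N) + Module.length R (R ⧸ I.colon (J : Set R)) + Module.length R (LinearMap.range res)
      = (Module.length R (↥I →ₗ[R] N) + Module.length R (LinearMap.range res)) + Module.length R (R ⧸ I.colon (J : Set R)) := by ring
    _ = _ := by rw [← e1]; ring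

end Groth.Agent.RegTwoHomLib
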